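import Groth.Agent.NagataLib.Glue
import Groth.Agent.GITQuot.Descent
import Groth.Agent.ModPairLib.Closure
import Groth.Agent.S2299

/-!
# Gluing two schemes which quasi-dominate each other
-/

universe u

set_option autoImplicit false
set_option linter.style.haveILetI false
set_option backward.isDefEq.respectTransparency false
set_option backward.isDefEq.respectTransparency.types false

open CategoryTheory CategoryTheory.Limits AlgebraicGeometry TopologicalSpace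

namespace Groth.Agent.QDomGlue

open Groth.Agent

variable {S X₁ X₂ U : Scheme.{u}} {p₁ : X₁ ⟶ S} {p₂ : X₂ ⟶ S} [IsSeparated p₁]
  {j₁ : U ⟶ X₁} {j₂ : U ⟶ X₂} [IsOpenImmersion j₁] [IsSchemeTheoreticallyDominant j₁] [QuasiCompact j₁]
  {W₁ : X₁.Opens} {φ : (↑W₁ : Scheme.{u}) ⟶ X₂} {k₁ : U ⟶ ↑W₁}
  {W₂ : X₂.Opens} {ψ : (↑W₂ : Scheme.{u}) ⟶ X₁} {k₂ : U ⟶ ↑W₂}

/-- On the common domain the second map inverts the first. -/
theorem restrict_comp (hφ : W₁.ι ≫ p₁ = φ ≫ p₂) (hψ : W₂.ι ≫ p₂ = ψ ≫ p₁)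
    (hk₁ : k₁ ≫ W₁.ι = j₁) (hk₁' : k₁ ≫ φ = j₂) (hk₂ : k₂ ≫ W₂.ι = j₂) (hk₂' : k₂ ≫ ψ = j₁) :
    (φ ∣_ W₂) ≫ ψ = (φ ⁻¹ᵁ W₂).ι ≫ W₁.ι := by
  let O : X₁.Opens := W₁.ι ''ᵁ (φ ⁻¹ᵁ W₂)
  haveI : IsSchemeTheoreticallyDominant (j₁ ∣_ O) := ModPairLib.isSchemeTheoreticallyDominant_restrict j₁ O
  let e : ((φ ⁻¹ᵁ W₂ : (W₁ : Scheme.{u}).Opens) : Scheme.{u}) ≅ O := W₁.ι.isoImage (φ ⁻¹ᵁ W₂)
  have he : e.inv ≫ (φ ⁻¹ᵁ W₂).ι ≫ W₁.ι = O.ι := W₁.ι.isoImage_inv_ι (φ ⁻¹ᵁ W₂)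
  rw [← cancel_epi e.inv]
  refine Groth.Agent.S2299.result (j₁ ∣_ O) p₁ _ _ ?_ ?_
  · simp only [Category.assoc, ← hψ, morphismRestrict_ι_assoc, hφ]
  · have hpre : (j₁ ∣_ O) ≫ e.inv ≫ (φ ⁻¹ᵁ W₂).ι = (j₁ ⁻¹ᵁ O).ι ≫ k₁ := by
      rw [← cancel_mono W₁.ι]
      simp only [Category.assoc, hk₁, he, morphismRestrict_ι]
    have h2 : (j₁ ∣_ O) ≫ e.inv ≫ (φ ∣_ W₂) = (j₁ ⁻¹ᵁ O).ι ≫ k₂ := by
      rw [← cancel_mono W₂.ι]
      simp only [Category.assoc, hk₂, morphismRestrict_ι]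
      rw [reassoc_of% hpre, hk₁']
    rw [reassoc_of% h2, hk₂', he, morphismRestrict_ι]

/-- A morphism that is an open immersion from two sides, dominant from a common open, is dominant. -/
theorem isSchemeTheoreticallyDominant_of_cover {A B Y V : Scheme.{u}} (i₁ : A ⟶ Y) (i₂ : B ⟶ Y)
    [IsOpenImmersion i₁] [IsOpenImmersion i₂] (hcov : i₁.opensRange ⊔ i₂.opensRange = ⊤)
    (a : V ⟶ A) (b : V ⟶ B) (h : a ≫ i₁ = b ≫ i₂) [IsSchemeTheoreticallyDominant a]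
    [IsSchemeTheoreticallyDominant b] [QuasiCompact a] [QuasiCompact b] [QuasiCompact (a ≫ i₁)] :
    IsSchemeTheoreticallyDominant (a ≫ i₁) := by
  refine GITQuot.isSchemeTheoreticallyDominant_of_app_injective _ fun O => ?_
  rw [injective_iff_map_eq_zero]
  intro s hs
  have key : ∀ {C : Scheme.{u}} (i : C ⟶ Y) (c : V ⟶ C) [IsOpenImmersion i]
      [IsSchemeTheoreticallyDominant c] [QuasiCompact c] (_ : c ≫ i = a ≫ i₁) (O' : Y.Opens) (_ : O' ≤ i.opensRange)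
      (hle : O' ≤ O), Y.presheaf.map (homOfLE hle).op s = 0 := by
    intro C i c _ _ _ hc O' hO' hle
    haveI : IsIso (i.app O') := i.isIso_app _ hO'
    apply (ConcreteCategory.bijective_of_isIso (i.app O')).1
    apply c.app_injective
    rw [map_zero, map_zero, ← CommRingCat.comp_apply, ← Scheme.Hom.comp_app]
    have e : (a ≫ i₁).app O' (Y.presheaf.map (homOfLE hle).op s) = 0 := by
      rw [← CommRingCat.comp_apply, Scheme.Hom.naturality, CommRingCat.comp_apply, hs, map_zero]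
    rw [Scheme.Hom.congr_app hc, CommRingCat.comp_apply, e, map_zero]
  refine Y.IsSheaf.section_ext fun x hx => ?_
  rcases (hcov.ge (Set.mem_univ x) : x ∈ i₁.opensRange ⊔ i₂.opensRange) with h' | h'
  · exact ⟨O ⊓ i₁.opensRange, inf_le_left, ⟨hx, h'⟩, by
      rw [map_zero]; exact key i₁ a rfl _ inf_le_right inf_le_left⟩
  · exact ⟨O ⊓ i₂.opensRange, inf_le_left, ⟨hx, h'⟩, by
      rw [map_zero]; exact key i₂ b h.symm _ inf_le_right inf_le_left⟩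

variable [IsSeparated p₂] [IsOpenImmersion j₂] [IsSchemeTheoreticallyDominant j₂] [QuasiCompact j₂]

/-- Two schemes which quasi-dominate each other glue to a separated scheme. -/
theorem exists_glue [IsNoetherian S] [QuasiCompact p₁] [LocallyOfFiniteType p₁] [QuasiCompact p₂]
    [LocallyOfFiniteType p₂]
    (hφ : W₁.ι ≫ p₁ = φ ≫ p₂) (hψ : W₂.ι ≫ p₂ = ψ ≫ p₁)
    (hφc : IsClosed (Set.range (fun w => (Limits.pullback.lift W₁.ι φ hφ) w)))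
    (hψc : IsClosed (Set.range (fun w => (Limits.pullback.lift W₂.ι ψ hψ) w)))
    (hk₁ : k₁ ≫ W₁.ι = j₁) (hk₁' : k₁ ≫ φ = j₂) (hk₂ : k₂ ≫ W₂.ι = j₂) (hk₂' : k₂ ≫ ψ = j₁) :
    ∃ (Y : Scheme.{u}) (q : Y ⟶ S) (i₁ : X₁ ⟶ Y) (i₂ : X₂ ⟶ Y), IsSeparated q ∧ QuasiCompact q ∧
      LocallyOfFiniteType q ∧ IsOpenImmersion i₁ ∧ IsOpenImmersion i₂ ∧ i₁ ≫ q = p₁ ∧ i₂ ≫ q = p₂ ∧
      j₁ ≫ i₁ = j₂ ≫ i₂ ∧ QuasiCompact (j₁ ≫ i₁) ∧ IsSchemeTheoreticallyDominant (j₁ ≫ i₁) := by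
  have hA := restrict_comp hφ hψ hk₁ hk₁' hk₂ hk₂'
  have hB := restrict_comp hψ hφ hk₂ hk₂' hk₁ hk₁'
  let a : ((φ ⁻¹ᵁ W₂ : (W₁ : Scheme.{u}).Opens) : Scheme.{u}) ⟶ X₁ := (φ ⁻¹ᵁ W₂).ι ≫ W₁.ι
  let b : ((φ ⁻¹ᵁ W₂ : (W₁ : Scheme.{u}).Opens) : Scheme.{u}) ⟶ X₂ := (φ ⁻¹ᵁ W₂).ι ≫ φ
  -- the two restrictions are mutually inverse
  have hr₁ : Set.range (φ ∣_ W₂) ⊆ Set.range (ψ ⁻¹ᵁ W₁).ι := by
    rintro _ ⟨t, rfl⟩
    rw [Scheme.Opens.range_ι]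
    show ψ ((φ ∣_ W₂) t) ∈ W₁
    rw [← Scheme.Hom.comp_apply, hA]
    exact ((φ ⁻¹ᵁ W₂).ι t).2
  have hr₂ : Set.range (ψ ∣_ W₁) ⊆ Set.range (φ ⁻¹ᵁ W₂).ι := by
    rintro _ ⟨t, rfl⟩
    rw [Scheme.Opens.range_ι]
    show φ ((ψ ∣_ W₁) t) ∈ W₂
    rw [← Scheme.Hom.comp_apply, hB]
    exact ((ψ ⁻¹ᵁ W₁).ι t).2
  let l₁ := IsOpenImmersion.lift _ (φ ∣_ W₂) hr₁
  let l₂ := IsOpenImmersion.lift _ (ψ ∣_ W₁) hr₂
  have hl₁ : l₁ ≫ (ψ ⁻¹ᵁ W₁).ι = φ ∣_ W₂ := IsOpenImmersion.lift_fac _ _ _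
  have hl₂ : l₂ ≫ (φ ⁻¹ᵁ W₂).ι = ψ ∣_ W₁ := IsOpenImmersion.lift_fac _ _ _
  haveI : IsIso l₁ := by
    refine ⟨l₂, ?_, ?_⟩
    · rw [← cancel_mono ((φ ⁻¹ᵁ W₂).ι ≫ W₁.ι), Category.id_comp, Category.assoc, reassoc_of% hl₂,
        morphismRestrict_ι, reassoc_of% hl₁, hA]
    · rw [← cancel_mono ((ψ ⁻¹ᵁ W₁).ι ≫ W₂.ι), Category.id_comp, Category.assoc, reassoc_of% hl₁,
        morphismRestrict_ι, reassoc_of% hl₂, hB]
  haveI : IsOpenImmersion b := by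
    have e : b = l₁ ≫ (ψ ⁻¹ᵁ W₁).ι ≫ W₂.ι := by
      rw [reassoc_of% hl₁, morphismRestrict_ι]
    rw [e]; infer_instance
  haveI : IsOpenImmersion a := inferInstance
  have w : a ≫ p₁ = b ≫ p₂ := by simp only [a, b, Category.assoc, hφ]
  have hcl : IsClosed (Set.range (pullback.lift a b w)) := by
    let σ := pullbackSymmetry p₁ p₂
    have e₁ : pullback.lift a b w = (φ ⁻¹ᵁ W₂).ι ≫ pullback.lift W₁.ι φ hφ := by
      apply pullback.hom_ext <;> simp [a, b, pullback.lift_fst, pullback.lift_snd]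
    have e₂ : pullback.lift a b w ≫ σ.hom = (φ ∣_ W₂) ≫ pullback.lift W₂.ι ψ hψ := by
      apply pullback.hom_ext <;> simp [a, b, σ, pullback.lift_fst, pullback.lift_snd, hA]
    have hset : Set.range (pullback.lift a b w) = Set.range (pullback.lift W₁.ι φ hφ) ∩
        σ.hom ⁻¹' Set.range (pullback.lift W₂.ι ψ hψ) := by
      refine subset_antisymm ?_ ?_
      · rintro _ ⟨t, rfl⟩
        refine ⟨⟨(φ ⁻¹ᵁ W₂).ι t, ?_⟩, (φ ∣_ W₂) t, ?_⟩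
        · rw [← Scheme.Hom.comp_apply, e₁]
        · rw [← Scheme.Hom.comp_apply, ← e₂, Scheme.Hom.comp_apply]
      · rintro z ⟨⟨w₁, rfl⟩, ⟨w₂, hw₂⟩⟩
        have hmem : w₁ ∈ φ ⁻¹ᵁ W₂ := by
          have h1 := congrArg (pullback.fst p₂ p₁) hw₂
          simp only [← Scheme.Hom.comp_apply, Category.assoc, σ, pullbackSymmetry_hom_comp_fst, pullback.lift_fst,
            pullback.lift_snd] at h1
          show φ w₁ ∈ W₂
          rw [← h1]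
          exact w₂.2
        exact ⟨⟨w₁, hmem⟩, by rw [e₁, Scheme.Hom.comp_apply]; rfl⟩
    rw [hset]
    exact hφc.inter (hψc.preimage σ.hom.continuous)
  have hr : Set.range k₁ ⊆ Set.range (φ ⁻¹ᵁ W₂).ι := by
    rintro _ ⟨t, rfl⟩
    rw [Scheme.Opens.range_ι]
    show φ (k₁ t) ∈ W₂
    rw [← Scheme.Hom.comp_apply, hk₁', ← hk₂, Scheme.Hom.comp_apply]
    exact (k₂ t).2
  let k := IsOpenImmersion.lift _ k₁ hr
  have hk : k ≫ (φ ⁻¹ᵁ W₂).ι = k₁ := IsOpenImmersion.lift_fac _ _ _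
  let i₁ := pushout.inl a b
  let i₂ := pushout.inr a b
  have hj : j₁ ≫ i₁ = j₂ ≫ i₂ := by
    have e1 : k ≫ a = j₁ := by rw [reassoc_of% hk, hk₁]
    have e2 : k ≫ b = j₂ := by rw [reassoc_of% hk, hk₁']
    rw [← e1, ← e2, Category.assoc, Category.assoc]
    exact congrArg (k ≫ ·) pushout.condition
  haveI : CompactSpace X₁ := QuasiCompact.compactSpace_of_compactSpace p₁
  haveI : CompactSpace X₂ := QuasiCompact.compactSpace_of_compactSpace p₂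
  haveI := NagataLib.compactSpace_glue (a := a) (b := b)
  haveI hsep := NagataLib.isSeparated_glue w hcl
  haveI hft := NagataLib.locallyOfFiniteType_glue w
  haveI hqc : QuasiCompact (NagataLib.glueDesc w) := quasiCompact_of_compactSpace _
  haveI : IsLocallyNoetherian (NagataLib.glue a b) :=
    LocallyOfFiniteType.isLocallyNoetherian (NagataLib.glueDesc w)
  haveI : QuasiCompact (j₁ ≫ i₁) := inferInstance
  exact ⟨_, NagataLib.glueDesc w, i₁, i₂, hsep, hqc, hft, inferInstance, inferInstance,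
    NagataLib.inl_glueDesc w, NagataLib.inr_glueDesc w, hj, inferInstance,
    isSchemeTheoreticallyDominant_of_cover i₁ i₂ NagataLib.opensRange_sup j₁ j₂ hj⟩

end Groth.Agent.QDomGlue
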